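import Cfsg.Agent.H977.E6I.Orth
import Cfsg.Agent.H72.F4I.Iso.Alt
import Cfsg.Agent.H376.CocAlt
import Cfsg.Agent.S2475
import Cfsg.Agent.NotCT.Orders
import Cfsg.Prelude.Def_Classification2

/-!
# `E₆(q)`, `²E₆(q)`, rows `A_k`, `PSL₂(u)`, sporadic groups, Tits group (helper977, S3480, S3481)
-/

set_option autoImplicit false

namespace Cfsg.Agent.H977.E6I

open Cfsg Cfsg.Agent.H414.E6 Cfsg.Agent.H72.F4I.Iso Cfsg.Agent.NotCT

section num

variable {D : Dat}

theorem three_n : (D.q : ℤ) ^ 6 - D.q ^ 3 + 1 ≤ 3 * D.n := by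
  have h8 := D.hn
  have hd : (D.d : ℤ) ≤ 3 := by rcases D.hd with h | h <;> rw [h] <;> norm_num
  have h9 : (D.d : ℤ) * D.n ≤ 3 * D.n := mul_le_mul_of_nonneg_right hd (by positivity)
  have h10 : (0 : ℤ) ≤ (D.q : ℤ) ^ 3 := by positivity
  rcases D.eps with h | h <;> rw [h] at h8 <;> linarith

theorem e_le : (D.e : ℤ) ≤ (D.q : ℤ) ^ 6 + D.q ^ 5 - D.q ^ 3 + D.q + 1 := by
  rw [D.he, D.hm]
  have h10 : (0 : ℤ) ≤ (D.q : ℤ) := by positivity
  rcases D.eps with h | h <;> rw [h]
  · nlinarith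
  · nlinarith [mul_nonneg h10 (sq_nonneg ((D.q : ℤ) ^ 2 - 1))]

theorem m_lt_n : D.m + 3 < D.n := by
  rcases Nat.lt_or_ge D.q 3 with h | h
  · have hsm := small D (by omega)
    have hm := D.m_add
    have hq : D.q = 2 := by have := D.two_le; omega
    rw [hq] at hsm hm
    simp at hsm
    omega
  · have h3 : (3 : ℤ) ≤ D.q := by exact_mod_cast h
    have h1 := three_n (D := D)
    have h2 := D.hm
    have h5 : (27 : ℤ) ≤ (D.q : ℤ) ^ 3 := by
      calc (27 : ℤ) = 3 ^ 3 := by norm_num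
        _ ≤ (D.q : ℤ) ^ 3 := pow_le_pow_left₀ (by norm_num) h3 3
    have h6 : 9 * (D.q : ℤ) ^ 4 ≤ D.q ^ 6 := by
      have : (D.q : ℤ) ^ 6 = D.q ^ 2 * D.q ^ 4 := by ring
      rw [this]
      exact mul_le_mul_of_nonneg_right (by nlinarith) (by positivity)
    have h7 : 3 * (D.q : ℤ) ^ 3 ≤ D.q ^ 4 := by
      rw [pow_succ (D.q : ℤ) 3, mul_comm]
      exact mul_le_mul_of_nonneg_left h3 (by positivity)
    have h8 : (0 : ℤ) ≤ (D.q : ℤ) ^ 2 := by positivity
    have h9 : ((D.m + 3 : ℕ) : ℤ) < D.n := by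
      push_cast
      nlinarith
    exact_mod_cast h9

/-- `n²` is large -/
theorem sq_lt : 2 * D.e + 1 < D.n ^ 2 := by
  rcases Nat.lt_or_ge D.q 3 with h | h
  · have hsm := small D (by omega)
    have hq : D.q = 2 := by have := D.two_le; omega
    have he := e_le (D := D)
    rw [hq] at hsm he
    simp at hsm
    push_cast at he
    have he' : D.e ≤ 91 := by
      have : (D.e : ℤ) ≤ 91 := by linarith
      exact_mod_cast this
    rcases hsm with ⟨-, -, hn⟩ | ⟨-, -, hn⟩ <;> rw [hn] <;> omega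
  · have h3 : (3 : ℤ) ≤ D.q := by exact_mod_cast h
    have h1 := three_n (D := D)
    have h2 := e_le (D := D)
    obtain ⟨x, hx⟩ : ∃ x : ℤ, (D.q : ℤ) ^ 6 = x := ⟨_, rfl⟩
    have h5 : (729 : ℤ) ≤ x := by
      rw [← hx]
      calc (729 : ℤ) = 3 ^ 6 := by norm_num
        _ ≤ (D.q : ℤ) ^ 6 := pow_le_pow_left₀ (by norm_num) h3 6
    have h6 : 27 * (D.q : ℤ) ^ 3 ≤ x := by
      rw [← hx]
      have : (D.q : ℤ) ^ 6 = D.q ^ 3 * D.q ^ 3 := by ring
      rw [this]
      refine mul_le_mul_of_nonneg_right ?_ (by positivity)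
      calc (27 : ℤ) = 3 ^ 3 := by norm_num
        _ ≤ (D.q : ℤ) ^ 3 := pow_le_pow_left₀ (by norm_num) h3 3
    have h7 : 3 * (D.q : ℤ) ^ 5 ≤ x := by
      rw [← hx, pow_succ (D.q : ℤ) 5, mul_comm]
      exact mul_le_mul_of_nonneg_left h3 (by positivity)
    have h8 : (D.q : ℤ) ≤ D.q ^ 3 := by
      have : (D.q : ℤ) ^ 3 = D.q ^ 2 * D.q := by ring
      rw [this]
      nlinarith
    have h9 : (D.e : ℤ) ≤ 2 * x := by rw [hx] at h2; linarith
    have h10 : x ≤ 6 * D.n := by rw [hx] at h1; linarith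
    have h11 : ((2 * D.e + 1 : ℕ) : ℤ) < ((D.n ^ 2 : ℕ) : ℤ) := by
      push_cast
      nlinarith
    exact_mod_cast h11

end num

section alt

variable {D : Dat} {k : ℕ}

/-- **Row `A_k`.** -/
theorem row_alt (h : Sit D (alternatingGroup (Fin k))) : False := by
  have h1 := alt_row (isoN h)
  obtain ⟨t, ht, htm⟩ := Nat.exists_prime_and_dvd (show D.m ≠ 1 by have := D.m_ge; omega)
  have h13 := D.prime_m_ge ht htm
  have h2 : k < t + 4 := by
    by_contra hcon
    exact h.not_two_m ht htm (H376.Coc.alt_adj_two (m := k) ht (by omega) (by omega))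
  have h3 := Nat.le_of_dvd D.pos_m htm
  have h4 := m_lt_n (D := D)
  omega

end alt

section psl2

variable {D : Dat} {F : Type*} [Field F] [Fintype F]

/-- **Row `PSL₂(u)`.** -/
theorem row_psl2 (h4 : 4 ≤ Fintype.card F) (h : Sit D (Matrix.ProjectiveSpecialLinearGroup (Fin 2) F)) : False := by
  obtain ⟨l, hl⟩ := CharP.exists F
  have hlp : Fact l.Prime := ⟨CharP.char_is_prime F l⟩
  obtain ⟨f, hlp', hf⟩ := FiniteField.card F l
  have hspec := S2475.result (F := F) l h4
  obtain ⟨u, hu⟩ : ∃ u, Fintype.card F = u := ⟨_, rfl⟩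
  rw [hu] at hspec h4 hf
  have hin : ∀ N : ℕ, (N ∣ l ∨ N ∣ (u - 1) / Nat.gcd 2 (u - 1) ∨ N ∣ (u + 1) / Nat.gcd 2 (u - 1)) ↔
      ∃ x : Matrix.ProjectiveSpecialLinearGroup (Fin 2) F, orderOf x = N := fun N => by
    have := Set.ext_iff.1 hspec N
    exact this.symm
  have hfin : Finite (Matrix.ProjectiveSpecialLinearGroup (Fin 2) F) := inferInstance
  have hn19 := D.one_lt_n
  have hm13 := D.m_ge
  obtain ⟨s, hs, hsn⟩ := Nat.exists_prime_and_dvd (show D.n ≠ 1 by omega)
  obtain ⟨t, ht, htm⟩ := Nat.exists_prime_and_dvd (show D.m ≠ 1 by omega)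
  have hon := (hin _).2 h.on
  have hom := (hin _).2 h.om
  have hd : (u % 2 = 0 ∧ Nat.gcd 2 (u - 1) = 1) ∨ (u % 2 = 1 ∧ Nat.gcd 2 (u - 1) = 2) := by
    rcases Nat.mod_two_eq_zero_or_one u with h2 | h2
    · refine Or.inl ⟨h2, ?_⟩
      have : ¬ 2 ∣ u - 1 := by omega
      exact (Nat.Prime.coprime_iff_not_dvd Nat.prime_two).2 this
    · refine Or.inr ⟨h2, Nat.gcd_eq_left (by omega)⟩
  have hu1 := (hin _).1 (Or.inr (Or.inl (dvd_refl ((u - 1) / Nat.gcd 2 (u - 1)))))
  have hu2 := (hin _).1 (Or.inr (Or.inr (dvd_refl ((u + 1) / Nat.gcd 2 (u - 1)))))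
  have hll := (hin _).1 (Or.inl (dvd_refl l))
  have hlu : l ∣ u := by rw [hf]; exact dvd_pow_self l f.ne_zero
  -- the two halves
  obtain ⟨g, hg, hA, hB⟩ : ∃ g, (g = 1 ∨ g = 2) ∧ g * ((u - 1) / Nat.gcd 2 (u - 1)) + 1 = u ∧
      g * ((u + 1) / Nat.gcd 2 (u - 1)) = u + 1 := by
    rcases hd with ⟨h1, h2⟩ | ⟨h1, h2⟩
    · exact ⟨1, Or.inl rfl, by rw [h2]; omega, by rw [h2]; omega⟩
    · exact ⟨2, Or.inr rfl, by rw [h2]; omega, by rw [h2]; omega⟩
  obtain ⟨A, hA'⟩ : ∃ A, (u - 1) / Nat.gcd 2 (u - 1) = A := ⟨_, rfl⟩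
  obtain ⟨B, hB'⟩ : ∃ B, (u + 1) / Nat.gcd 2 (u - 1) = B := ⟨_, rfl⟩
  rw [hA'] at hon hom hu1 hA
  rw [hB'] at hon hom hu2 hB
  have hnm : ∀ {C : ℕ}, D.n ∣ C → D.m ∣ C → (∃ x : Matrix.ProjectiveSpecialLinearGroup (Fin 2) F, orderOf x = C) →
      False := fun {C} h1 h2 h3 => h.not_both h3 hs (hsn.trans h1) hsn ht (htm.trans h2) htm
  have hgm : ∀ {C : ℕ}, D.m ∣ C → (D.m : ℤ) ∣ C := fun {C} h => Int.natCast_dvd_natCast.2 h
  have hodd2 : ∀ {a : ℤ}, (D.m : ℤ) ∣ 2 * a → (D.m : ℤ) ∣ a := fun {a} h => by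
    have h1 : IsCoprime (D.m : ℤ) 2 := by
      have := Nat.isCoprime_iff_coprime.2 ((Nat.Prime.coprime_iff_not_dvd Nat.prime_two).2 D.m_odd).symm
      exact_mod_cast this
    exact h1.dvd_of_dvd_mul_left h
  rcases hon with hn | hn | hn
  · -- `n` is the characteristic
    have hnl : D.n = l := by
      rcases (Nat.dvd_prime hlp').1 hn with h2 | h2
      · omega
      · exact h2
    -- `m` divides `A` or `B`
    obtain ⟨C, δ, hCx, hmC, hCu, hδ⟩ : ∃ (C : ℕ) (δ : ℤ), (∃ x : Matrix.ProjectiveSpecialLinearGroup (Fin 2) F, orderOf x = C) ∧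
        D.m ∣ C ∧ (g : ℤ) * C = u + δ ∧ (δ = 1 ∨ δ = -1) := by
      rcases hom with h1 | h1 | h1
      · exact (hnm hn h1 hll).elim
      · refine ⟨A, -1, hu1, h1, ?_, Or.inr rfl⟩
        have : ((g * A + 1 : ℕ) : ℤ) = u := by rw [hA]
        push_cast at this
        linarith
      · refine ⟨B, 1, hu2, h1, ?_, Or.inl rfl⟩
        have : ((g * B : ℕ) : ℤ) = ((u + 1 : ℕ) : ℤ) := by rw [hB]
        push_cast at this
        linarith
    have hf1 : (f : ℕ) = 1 := by
      by_contra hne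
      have hf2 : 2 ≤ (f : ℕ) := by have := f.pos; omega
      have h1 : D.n ^ 2 ≤ u := by
        rw [hf, ← hnl]
        exact Nat.pow_le_pow_right (by omega) hf2
      have h2 : C ∣ D.e := h.dvd_e hCx ht (htm.trans hmC) htm
      have he0 : 0 < D.e := Nat.pos_of_ne_zero fun h => D.e_odd (h ▸ dvd_zero _)
      have h3 := Nat.le_of_dvd he0 h2
      have h4 : (u : ℤ) ≤ 2 * C + 1 := by
        have hC0 : (0 : ℤ) ≤ C := by positivity
        rcases hg with rfl | rfl <;> rcases hδ with rfl | rfl <;> push_cast at hCu <;> linarith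
      have h5 : u ≤ 2 * C + 1 := by exact_mod_cast h4
      have h6 := sq_lt (D := D)
      omega
    have hun : u = D.n := by rw [hf, hf1, pow_one, hnl]
    have h1 : (D.m : ℤ) ∣ 1 * D.n + δ := by
      rw [one_mul, ← hun, ← hCu]
      exact Dvd.dvd.mul_left (hgm hmC) _
    exact dead_one (D := D) one_pos hδ (Or.inl rfl) h1
  · -- `n = A`
    have hnA : D.n = A := Nat.dvd_antisymm hn (h.dvd_n hu1 hs (hsn.trans hn) hsn)
    have hA1 : (g : ℤ) * D.n + 1 = u := by
      rw [hnA]
      exact_mod_cast hA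
    rcases hom with h1 | h1 | h1
    · have hml : D.m = l := by
        rcases (Nat.dvd_prime hlp').1 h1 with h2 | h2
        · omega
        · exact h2
      have h2 : (D.m : ℤ) ∣ g * D.n + 1 := by
        rw [hA1]
        exact hgm (hml ▸ hlu)
      by_cases h19 : D.n = 19 ∧ g = 2
      · have h3 : u = 39 := by
          rw [h19.1, h19.2] at hA1
          have : (u : ℤ) = 39 := by rw [← hA1]; norm_num
          exact_mod_cast this
        have h5 : 3 ∣ l ^ (f : ℕ) := by
          rw [← hf, h3]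
          norm_num
        have h6 := (Nat.prime_dvd_prime_iff_eq Nat.prime_three hlp').1 (Nat.prime_three.dvd_of_dvd_pow h5)
        omega
      · rcases hg with rfl | rfl
        · exact dead_one (D := D) (A := 1) (B := 1) one_pos (Or.inl rfl) (Or.inl rfl) (by simpa using h2)
        · rcases Nat.lt_or_ge D.q 3 with hq | hq
          · have hsm := small D (by omega)
            have hm := D.hm
            have hq2 : D.q = 2 := by have := D.two_le; omega
            rw [hq2] at hsm hm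
            norm_num at hm
            rw [hm] at h2
            simp at hsm
            rcases hsm with ⟨-, -, h3⟩ | ⟨-, -, h3⟩
            · rw [h3] at h2
              norm_num at h2
            · exact h19 ⟨h3, rfl⟩
          · refine dead_one (D := D) (A := 2) (B := 1) two_pos (Or.inl rfl) (Or.inr ?_) (by simpa using h2)
            have : (3 : ℤ) ≤ D.q := by exact_mod_cast hq
            linarith
    · exact (hnm hn h1 hu1).elim
    · have h2 : (D.m : ℤ) ∣ g * D.n + 2 := by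
        have h3 : (g : ℤ) * B = g * D.n + 2 := by
          have : ((g * B : ℕ) : ℤ) = ((u + 1 : ℕ) : ℤ) := by rw [hB]
          push_cast at this
          linarith
        rw [← h3]
        exact Dvd.dvd.mul_left (hgm h1) _
      rcases hg with rfl | rfl
      · exact dead_two (D := D) (B := 2) (Or.inl rfl) (by simpa using h2)
      · refine dead_one (D := D) (A := 1) (B := 1) one_pos (Or.inl rfl) (Or.inl rfl) (hodd2 ?_)
        have : (2 : ℤ) * (1 * D.n + 1) = (2 : ℕ) * D.n + 2 := by push_cast; ring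
        rwa [this]
  · -- `n = B`
    have hnB : D.n = B := Nat.dvd_antisymm hn (h.dvd_n hu2 hs (hsn.trans hn) hsn)
    have hB1 : (g : ℤ) * D.n = u + 1 := by
      rw [hnB]
      exact_mod_cast hB
    rcases hom with h1 | h1 | h1
    · have hml : D.m = l := by
        rcases (Nat.dvd_prime hlp').1 h1 with h2 | h2
        · omega
        · exact h2
      have h2 : (D.m : ℤ) ∣ g * D.n + -1 := by
        rw [hB1]
        simpa using hgm (hml ▸ hlu)
      rcases hg with rfl | rfl
      · exact dead_one (D := D) (A := 1) (B := -1) one_pos (Or.inr rfl) (Or.inl rfl) (by simpa using h2)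
      · exact dead_AB (D := D) (A := 2) (B := -1) (by norm_num) (by norm_num) (by norm_num) (by decide) (by simpa using h2)
    · have h2 : (D.m : ℤ) ∣ g * D.n + -2 := by
        have h3 : (g : ℤ) * A = g * D.n + -2 := by
          have : ((g * A + 1 : ℕ) : ℤ) = u := by rw [hA]
          push_cast at this
          linarith
        rw [← h3]
        exact Dvd.dvd.mul_left (hgm h1) _
      rcases hg with rfl | rfl
      · exact dead_two (D := D) (B := -2) (Or.inr rfl) (by simpa using h2)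
      · refine dead_one (D := D) (A := 1) (B := -1) one_pos (Or.inr rfl) (Or.inl rfl) (hodd2 ?_)
        have : (2 : ℤ) * (1 * D.n + -1) = (2 : ℕ) * D.n + -2 := by push_cast; ring
        rwa [this]
    · exact (hnm hn h1 hu2).elim

end psl2

section spor

variable {D : Dat}

theorem n_le_three (h : D.n ≤ 703) : D.q ≤ 3 := by
  by_contra hcon
  push Not at hcon
  have h3 : (4 : ℤ) ≤ D.q := by exact_mod_cast hcon
  have h1 := three_n (D := D)
  have h5 : (64 : ℤ) ≤ (D.q : ℤ) ^ 3 := by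
    calc (64 : ℤ) = 4 ^ 3 := by norm_num
      _ ≤ (D.q : ℤ) ^ 3 := pow_le_pow_left₀ (by norm_num) h3 3
  have h6 : (D.q : ℤ) ^ 6 = D.q ^ 3 * D.q ^ 3 := by ring
  have h7 : (D.n : ℤ) ≤ 703 := by exact_mod_cast h
  nlinarith

theorem coprime_r {r : ℕ} (hr : r.Prime) (h1 : r % 18 ≠ 1) (k : ℕ) : Nat.Coprime D.n (r ^ k) :=
  Nat.Coprime.pow_right _ (Nat.Coprime.symm ((Nat.Prime.coprime_iff_not_dvd hr).2 fun hd => h1 (D.prime_n hr hd)))

theorem dvd_lcm (hd : D.n ∣ 2 ^ 46 * 3 ^ 20 * 5 ^ 9 * 7 ^ 6 * 11 ^ 3 * 13 ^ 3 * 17 ^ 1 * 23 ^ 1 * 29 ^ 1 *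
    31 ^ 1 * 41 ^ 1 * 43 ^ 1 * 47 ^ 1 * 59 ^ 1 * 67 ^ 1 * 71 ^ 1 * 703) : D.n ∣ 703 := by
  refine Nat.Coprime.dvd_of_dvd_mul_left ?_ hd
  have c : ∀ {r : ℕ}, r.Prime → r % 18 ≠ 1 → ∀ k, Nat.Coprime D.n (r ^ k) := fun hr h1 k => coprime_r hr h1 k
  exact ((((((((((((((((c (by norm_num) (by norm_num) _).mul_right (c (by norm_num) (by norm_num) _)).mul_right
    (c (by norm_num) (by norm_num) _)).mul_right (c (by norm_num) (by norm_num) _)).mul_right
    (c (by norm_num) (by norm_num) _)).mul_right (c (by norm_num) (by norm_num) _)).mul_right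
    (c (by norm_num) (by norm_num) _)).mul_right (c (by norm_num) (by norm_num) _)).mul_right
    (c (by norm_num) (by norm_num) _)).mul_right (c (by norm_num) (by norm_num) _)).mul_right
    (c (by norm_num) (by norm_num) _)).mul_right (c (by norm_num) (by norm_num) _)).mul_right
    (c (by norm_num) (by norm_num) _)).mul_right (c (by norm_num) (by norm_num) _)).mul_right
    (c (by norm_num) (by norm_num) _)).mul_right (c (by norm_num) (by norm_num) _))

theorem row_card {S : Type*} [Group S] [Finite S] (h : Sit D S) {N : ℕ} (hN : Nat.card S = N)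
    (hd : N ∣ 2 ^ 46 * 3 ^ 20 * 5 ^ 9 * 7 ^ 6 * 11 ^ 3 * 13 ^ 3 * 17 ^ 1 * 23 ^ 1 * 29 ^ 1 *
      31 ^ 1 * 41 ^ 1 * 43 ^ 1 * 47 ^ 1 * 59 ^ 1 * 67 ^ 1 * 71 ^ 1 * 703)
    (h2 : ¬ 703 ∣ N ∧ (¬ 13 ∣ N ∨ ¬ 17 ∣ N ∨ ¬ 19 ∣ N ∨ 31 ∣ N)) : False := by
  have hnN : D.n ∣ N := hN ▸ h.n_dvd_card
  have h3 : D.n ∣ 703 := dvd_lcm (hnN.trans hd)
  have h5 := Nat.le_of_dvd (by norm_num) h3
  have hq := n_le_three h5
  have hsm := small D (by omega)
  have hmN : D.m ∣ N := hN ▸ h.m_dvd_card
  have hm := D.m_add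
  have ho8 := h.o8
  have hprm := h.prm
  obtain ⟨n, hn'⟩ : ∃ n, D.n = n := ⟨_, rfl⟩
  obtain ⟨m, hm'⟩ : ∃ m, D.m = m := ⟨_, rfl⟩
  rw [hn'] at hnN h3 hsm h5
  rw [hm'] at hmN hm
  simp only [List.mem_cons, List.not_mem_nil, or_false, Prod.mk.injEq] at hsm
  rcases hsm with ⟨h6, h8, -, h7⟩ | ⟨h6, h8, -, h7⟩ | ⟨h6, -, -, h7⟩ | ⟨h6, -, -, h7⟩ | ⟨h6, -, -, h7⟩ |
    ⟨h6, -, -, h7⟩ | ⟨h6, -, -, h7⟩ | ⟨h6, -, -, h7⟩ | ⟨h6, -, -, h7⟩ | ⟨h6, -, -, h7⟩ | ⟨h6, -, -, h7⟩ |
    ⟨h6, -, -, h7⟩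
  · rw [h7] at h3; norm_num at h3
  · -- `²E₆(2)`
    rw [h6] at hm ho8 hprm
    rw [h8] at hprm
    have hm13 : m = 13 := by omega
    rw [hm13] at hmN
    rw [h7] at hnN
    obtain ⟨x, hx⟩ := ho8 (by norm_num)
    have h17 : 17 ∣ N := by
      rw [← hN]
      have := orderOf_dvd_natCard x
      rw [hx] at this
      exact this
    rcases h2.2 with h2 | h2 | h2 | h2
    · exact h2 hmN
    · exact h2 h17
    · exact h2 hnN
    · have h9 := hprm 31 (by norm_num) (hN ▸ h2)
      norm_num at h9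
  · rw [h7] at h3; norm_num at h3
  · exact h2.1 (h7 ▸ hnN)
  all_goals omega

/-- **Row: the Tits group.** -/
theorem row_tits {S : Type*} [Group S] [Finite S] (h : Sit D S) (hS : Lie.IsoTits S) : False :=
  row_card h (Orders.tits hS) (by decide +kernel) (by decide +kernel)

/-- **Row: the sporadic groups.** -/
theorem row_spor {S : Type*} [Group S] [Finite S] (h : Sit D S) (hS : IsSporadicGroup S) : False := by
  rcases hS with hS | hS | hS | hS | hS | hS | hS | hS | hS | hS | hS | hS | hS | hS | hS | hS | hS | hS | hS | hS | hS | hS |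
    hS | hS | hS | hS
  · exact row_card h (Orders.m11 hS) (by decide +kernel) (by decide +kernel)
  · exact row_card h (Orders.m12 hS) (by decide +kernel) (by decide +kernel)
  · exact row_card h (Orders.m22 hS) (by decide +kernel) (by decide +kernel)
  · exact row_card h (Orders.m23 hS) (by decide +kernel) (by decide +kernel)
  · exact row_card h (Orders.m24 hS) (by decide +kernel) (by decide +kernel)
  · exact row_card h (Orders.j1 hS) (by decide +kernel) (by decide +kernel)
  · exact row_card h (Orders.j2 hS) (by decide +kernel) (by decide +kernel)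
  · exact row_card h (Orders.j3 hS) (by decide +kernel) (by decide +kernel)
  · exact row_card h (Orders.j4 hS) (by decide +kernel) (by decide +kernel)
  · exact row_card h (Orders.co1 hS) (by decide +kernel) (by decide +kernel)
  · exact row_card h (Orders.co2 hS) (by decide +kernel) (by decide +kernel)
  · exact row_card h (Orders.co3 hS) (by decide +kernel) (by decide +kernel)
  · exact row_card h (Orders.mcl hS) (by decide +kernel) (by decide +kernel)
  · exact row_card h (Orders.hs hS) (by decide +kernel) (by decide +kernel)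
  · exact row_card h (Orders.suz hS) (by decide +kernel) (by decide +kernel)
  · exact row_card h (Orders.he hS) (by decide +kernel) (by decide +kernel)
  · exact row_card h (Orders.ru hS) (by decide +kernel) (by decide +kernel)
  · exact row_card h (Orders.on hS) (by decide +kernel) (by decide +kernel)
  · exact row_card h (Orders.ly hS) (by decide +kernel) (by decide +kernel)
  · exact row_card h (Orders.fi22 hS) (by decide +kernel) (by decide +kernel)
  · exact row_card h (Orders.fi23 hS) (by decide +kernel) (by decide +kernel)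
  · exact row_card h (Orders.fi24 hS) (by decide +kernel) (by decide +kernel)
  · exact row_card h (Orders.hn hS) (by decide +kernel) (by decide +kernel)
  · exact row_card h (Orders.th hS) (by decide +kernel) (by decide +kernel)
  · exact row_card h (Orders.b hS) (by decide +kernel) (by decide +kernel)
  · exact row_card h (Orders.m hS) (by decide +kernel) (by decide +kernel)

end spor

end Cfsg.Agent.H977.E6I
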